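import Groth.Agent.AVAmpleLib.KerShear
import Groth.Agent.AVThetaLib.SubPts
import Groth.Agent.CubeConsLib.GeomInt
import Groth.Agent.GrpHomLib.Propagate
import Groth.Agent.GrpSchLib.Cartier
import Groth.Agent.OmegaAffLib.GlobalFn
import Groth.Agent.S0414

/-!
# Isogenies in characteristic zero are étale
-/

set_option autoImplicit false
set_option linter.style.haveILetI false
set_option maxHeartbeats 800000
set_option backward.isDefEq.respectTransparency false
set_option backward.isDefEq.respectTransparency.types false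

universe u

open CategoryTheory CategoryTheory.Limits MonoidalCategory CartesianMonoidalCategory MonObj AlgebraicGeometry

noncomputable section

namespace AVIsogPullLib

variable {k : Type u} [Field k]

theorem etale_of_finite_reduced [CharZero k] {N : Scheme.{u}} (f : N ⟶ Spec (CommRingCat.of k)) [IsFinite f]
    [IsReduced N] : Etale f := by
  haveI : IsAffine N := isAffine_of_isAffineHom f
  rw [HasRingHomProperty.iff_of_isAffine (P := @Etale)]
  let e := (Scheme.ΓSpecIso (CommRingCat.of k)).commRingCatIsoToRingEquiv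
  letI : Field Γ(Spec (CommRingCat.of k), ⊤) := (e.toMulEquiv.isField (Field.toIsField k)).toField
  haveI : CharZero Γ(Spec (CommRingCat.of k), ⊤) :=
    (RingHom.charZero_iff (ϕ := e.toRingHom) e.injective).2 inferInstance
  haveI : PerfectField Γ(Spec (CommRingCat.of k), ⊤) := PerfectField.ofCharZero
  have hf : f.appTop.hom.Finite := IsFinite.finite_app f ⊤ (isAffineOpen_top _)
  algebraize [f.appTop.hom]
  haveI : Module.Finite Γ(Spec (CommRingCat.of k), ⊤) Γ(N, ⊤) := hf
  haveI := OmegaAffLib.formallyUnramified_of_finite_reduced Γ(Spec (CommRingCat.of k), ⊤) Γ(N, ⊤)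
  haveI := (Algebra.FormallyEtale.iff_formallyUnramified_of_field (K := Γ(Spec (CommRingCat.of k), ⊤))
    (A := Γ(N, ⊤))).2 inferInstance
  show Algebra.Etale Γ(Spec (CommRingCat.of k), ⊤) Γ(N, ⊤)
  exact ⟨inferInstance, Algebra.FinitePresentation.of_finiteType.1 inferInstance⟩

theorem etale_of_isogeny [IsAlgClosed k] [CharZero k] (A B : Over (Spec (CommRingCat.of k)))
    [GrpObj A] [IsProper A.hom] [Smooth A.hom] [GeometricallyConnected A.hom]
    [GrpObj B] [IsProper B.hom] [Smooth B.hom] [GeometricallyConnected B.hom]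
    (π : A ⟶ B) [IsMonHom π] [IsFinite π.left] [Surjective π.left] : Etale π.left := by
  haveI := CubeConsLib.geometricallyIntegral_of_smooth_group B
  haveI : IsIntegral B.left := GeometricallyIntegral.isIntegral_of_subsingleton B.hom
  haveI : Flat π.left := by
    obtain ⟨U, hd, hU, hU'⟩ := Groth.Agent.S0414.result π.left
    exact Groth.Agent.GrpHom.of_open_target @Flat π U hd.nonempty hU
  let N : Over (Spec (CommRingCat.of k)) := pullback π η[B]
  let i : N ⟶ A := pullback.fst _ _
  have hN : AlgGrp.IsKernel i π := by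
    have h := IsPullback.of_hasPullback π η[B]
    rwa [toUnit_unique (pullback.snd π η[B]) (toUnit N)] at h
  haveI : Mono (η[B] : 𝟙_ (Over (Spec (CommRingCat.of k))) ⟶ B) :=
    ⟨fun a b _ => toUnit_unique a b⟩
  haveI : Mono i := inferInstanceAs (Mono (pullback.fst π η[B]))
  have hi : ∀ {T : Over (Spec (CommRingCat.of k))} (t : T ⟶ N), (t ≫ i) ≫ π = 1 := fun t => by
    rw [Category.assoc, hN.w, ← Category.assoc, toUnit_unique (t ≫ toUnit N) (toUnit _)]
    rfl
  have hex : ∀ {T : Over (Spec (CommRingCat.of k))} (g : T ⟶ A), g ≫ π = 1 → ∃ w : T ⟶ N, w ≫ i = g :=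
    fun g hg => ⟨hN.lift g (toUnit _) hg, hN.lift_fst _ _ _⟩
  obtain ⟨_, _⟩ := AVThetaLib.exists_grpObj_sub i (fun T => hex 1 (MonObj.one_comp π))
    (fun T a b => hex _ (by rw [MonObj.mul_comp, hi, hi, _root_.one_mul]))
    (fun T a => hex _ (by rw [GrpObj.inv_comp, hi, inv_one]))
  have sq : IsPullback i.left N.hom π.left (η[B] : 𝟙_ (Over (Spec (CommRingCat.of k))) ⟶ B).left :=
    hN.map (Over.forget _)
  haveI : IsFinite N.hom := MorphismProperty.of_isPullback sq ‹IsFinite π.left›
  haveI : IsReduced N.left := Groth.Agent.GrpSchLib.isReduced_of_isAlgClosed N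
  exact (AVAmpleLib.prop_iff_kernel π i @Etale (fun sq' h =>
    MorphismProperty.of_isPullback_of_descendsAlong (P := @Etale)
      (Q := (@Surjective ⊓ @Flat ⊓ @QuasiCompact : MorphismProperty Scheme.{u})) sq'
      ⟨⟨inferInstanceAs (Surjective π.left), inferInstanceAs (Flat π.left)⟩, inferInstanceAs (QuasiCompact π.left)⟩ h) hN).2
    (etale_of_finite_reduced N.hom)

end AVIsogPullLib

end
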