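import Groth.Agent.GrTildeLib.IsoCrit
import Groth.Agent.MiscFlat6.CoprodQProj
import Groth.Agent.CohCmpLib.Cosyz
import Mathlib.CategoryTheory.Limits.Preserves.Shapes.Biproducts

/-!
# A module on a finite disjoint union is the sum of the push forwards of its restrictions
-/

set_option autoImplicit false
set_option linter.style.haveILetI false
set_option maxHeartbeats 800000
set_option backward.isDefEq.respectTransparency false
set_option backward.isDefEq.respectTransparency.types false

universe u

open CategoryTheory CategoryTheory.Limits AlgebraicGeometry TopologicalSpace Opposite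

noncomputable section

namespace AVIsogPullLib

variable {X P : Scheme.{u}} {n : ℕ} (σ : Fin n → (X ⟶ P)) [∀ j, IsOpenImmersion (σ j)]

/-- A summand. -/
abbrev piece (M : P.Modules) (j : Fin n) : P.Modules :=
  (Scheme.Modules.pushforward (σ j)).obj ((Scheme.Modules.restrictFunctor (σ j)).obj M)

/-- The map to the sum. -/
def toSum (M : P.Modules) : M ⟶ ⨁ piece σ M :=
  biproduct.lift fun j => (Scheme.Modules.restrictAdjunction (σ j)).unit.app M

theorem isIso_restrict_toSum (hd : ∀ i j : Fin n, i ≠ j → Disjoint (Set.range (σ i)) (Set.range (σ j)))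
    (M : P.Modules) (j : Fin n) : IsIso ((Scheme.Modules.restrictFunctor (σ j)).map (toSum σ M)) := by
  let R := Scheme.Modules.restrictFunctor (σ j)
  haveI : R.Additive := inferInstance
  have h0 : ∀ i : Fin n, i ≠ j → R.map (biproduct.π (piece σ M) i) = 0 := fun i hi =>
    ((MiscFlat6.isZero_pullback_push_disjoint (σ j) (σ i) (hd j i hi.symm) _).of_iso
      ((Scheme.Modules.restrictFunctorIsoPullback (σ j)).app _)).eq_of_tgt _ _
  haveI : IsIso (R.map (biproduct.π (piece σ M) j)) := by
    refine ⟨R.map (biproduct.ι (piece σ M) j), ?_, ?_⟩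
    · rw [← R.map_comp, ← R.map_id, ← biproduct.total, R.map_sum, Finset.sum_eq_single j]
      · intro i _ hi
        rw [R.map_comp, h0 i hi, zero_comp]
      · simp
    · rw [← R.map_comp, biproduct.ι_π_self, R.map_id]
  haveI : IsIso (R.map (toSum σ M) ≫ R.map (biproduct.π (piece σ M) j)) := by
    rw [← R.map_comp, toSum, biproduct.lift_π]
    have h := (Scheme.Modules.restrictAdjunction (σ j)).left_triangle_components M
    exact IsIso.of_isIso_fac_right h
  exact IsIso.of_isIso_comp_right _ (R.map (biproduct.π (piece σ M) j))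

theorem isIso_toSum (hd : ∀ i j : Fin n, i ≠ j → Disjoint (Set.range (σ i)) (Set.range (σ j)))
    (hc : ∀ z : P, ∃ j, z ∈ Set.range (σ j)) (M : P.Modules) : IsIso (toSum σ M) := by
  refine GrTildeLib.isIso_of_bijective_basis (toSum σ M)
    (fun p : Σ j : Fin n, X.Opens => σ p.1 ''ᵁ p.2) (fun V x hx => ?_) (fun p => ?_)
  · obtain ⟨j, y, rfl⟩ := hc x
    exact ⟨⟨j, σ j ⁻¹ᵁ V⟩, ⟨y, hx, rfl⟩, by rintro _ ⟨y', hy', rfl⟩; exact hy'⟩
  · haveI := isIso_restrict_toSum σ hd M p.1
    exact ConcreteCategory.bijective_of_isIso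
      (((Scheme.Modules.restrictFunctor (σ p.1)).map (toSum σ M)).app p.2)

theorem nonempty_push_iso {Y : Scheme.{u}} (q : P ⟶ Y) (e : X ⟶ Y) (he : ∀ j, σ j ≫ q = e)
    (hd : ∀ i j : Fin n, i ≠ j → Disjoint (Set.range (σ i)) (Set.range (σ j)))
    (hc : ∀ z : P, ∃ j, z ∈ Set.range (σ j)) (M : P.Modules) :
    Nonempty ((Scheme.Modules.pushforward q).obj M ≅
      ⨁ fun j => (Scheme.Modules.pushforward e).obj ((Scheme.Modules.pullback (σ j)).obj M)) := by
  haveI := isIso_toSum σ hd hc M
  exact ⟨(Scheme.Modules.pushforward q).mapIso (asIso (toSum σ M)) ≪≫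
    (Scheme.Modules.pushforward q).mapBiproduct _ ≪≫ biproduct.mapIso fun j =>
      (Scheme.Modules.pushforwardComp (σ j) q).app _ ≪≫ (Scheme.Modules.pushforwardCongr (he j)).app _ ≪≫
        (Scheme.Modules.pushforward e).mapIso ((Scheme.Modules.restrictFunctorIsoPullback (σ j)).app M)⟩

end AVIsogPullLib

end
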