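import Groth.Agent.AVIsogPullLib.Etale
import Groth.Agent.AVIsogPullLib.Push
import Groth.Agent.AVAmpleLib.Translate
import Groth.Agent.SplitCoverLib.Count
import Groth.Agent.S12131
import Groth.Agent.QCohLib.Push
import Groth.Prelude.Def_FlatMod2

/-!
# The pull back of a push forward along an isogeny
-/

set_option autoImplicit false
set_option linter.style.haveILetI false
set_option maxHeartbeats 1600000
set_option backward.isDefEq.respectTransparency false
set_option backward.isDefEq.respectTransparency.types false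

universe u

open CategoryTheory CategoryTheory.Limits MonoidalCategory CartesianMonoidalCategory MonObj AlgebraicGeometry

noncomputable section

namespace AVIsogPullLib

variable {k : Type u} [Field k] [IsAlgClosed k] {A B : Over (Spec (CommRingCat.of k))}
  [GrpObj A] [GrpObj B] (π : A ⟶ B) [IsMonHom π]

/-- The points of the kernel. -/
abbrev Ker : Type u := {a : 𝟙_ (Over (Spec (CommRingCat.of k))) ⟶ A // a ≫ π = 1}

omit [IsAlgClosed k] in
theorem tR_comp_π (a : Ker π) : AVAmpleLib.tR a.1 ≫ π = π := by
  rw [AVAmpleLib.tR, MonObj.mul_comp, Category.assoc, a.2, MonObj.comp_one, Category.id_comp, _root_.mul_one]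

/-- The section of the second projection given by a kernel point. -/
def sec (a : Ker π) : A.left ⟶ pullback π.left π.left :=
  pullback.lift (AVAmpleLib.tR a.1).left (𝟙 _)
    ((congrArg CommaMorphism.left (tR_comp_π π a)).trans (Category.id_comp _).symm)

@[reassoc]
theorem sec_fst (a : Ker π) : sec π a ≫ pullback.fst π.left π.left = (AVAmpleLib.tR a.1).left :=
  pullback.lift_fst _ _ _

@[reassoc]
theorem sec_snd (a : Ker π) : sec π a ≫ pullback.snd π.left π.left = 𝟙 _ :=
  pullback.lift_snd _ _ _

theorem pt_injective [LocallyOfFiniteType A.hom] :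
    Function.Injective (AVAmpleLib.pt : (𝟙_ (Over (Spec (CommRingCat.of k))) ⟶ A) → A.left) :=
  fun a b h => Over.OverMorphism.ext (ext_of_apply_closedPoint_eq A.hom (Over.w a) (Over.w b) h)

theorem finite_ker [LocallyOfFiniteType A.hom] [IsFinite π.left] : Finite (Ker π) := by
  have h := π.left.finite_preimage_singleton
    ((η[B] : 𝟙_ (Over (Spec (CommRingCat.of k))) ⟶ B).left (IsLocalRing.closedPoint k))
  haveI := h.to_subtype
  refine Finite.of_injective (fun a : Ker π =>
    (⟨AVAmpleLib.pt a.1, ?_⟩ : π.left ⁻¹' {(η[B] : 𝟙_ (Over (Spec (CommRingCat.of k))) ⟶ B).left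
      (IsLocalRing.closedPoint k)})) fun a b hab => Subtype.ext (pt_injective (congrArg Subtype.val hab))
  show π.left (a.1.left (IsLocalRing.closedPoint k)) = _
  have e : (1 : 𝟙_ (Over (Spec (CommRingCat.of k))) ⟶ B) = η[B] := by
    rw [Hom.one_def, toUnit_unique (toUnit _) (𝟙 _), Category.id_comp]
  have := congrArg (fun f : 𝟙_ (Over (Spec (CommRingCat.of k))) ⟶ B => f.left (IsLocalRing.closedPoint k))
    (a.2.trans e)
  exact this

theorem sec_cover [LocallyOfFiniteType A.hom] [IsFinite π.left] [Etale π.left] (z : ↥(pullback π.left π.left)) :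
    ∃ a : Ker π, z ∈ Set.range (sec π a) := by
  let p : pullback π.left π.left ⟶ Spec (CommRingCat.of k) := pullback.fst π.left π.left ≫ A.hom
  haveI : LocallyOfFiniteType p := inferInstance
  haveI := LocallyOfFiniteType.jacobsonSpace p
  haveI := finite_ker π
  have hcl : IsClosed (⋃ a : Ker π, Set.range (sec π a)) :=
    isClosed_iUnion_of_finite fun a => (SplitCover.section_props _ (sec π a) (sec_snd π a)).2
  have hall : closedPoints ↥(pullback π.left π.left) ⊆ ⋃ a : Ker π, Set.range (sec π a) := by
    intro w hw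
    let P := pointOfClosedPoint p w hw
    have hP : P ≫ p = 𝟙 _ := pointOfClosedPoint_comp p w hw
    have hP₁ : (P ≫ pullback.fst π.left π.left) ≫ A.hom = 𝟙 _ := by rw [Category.assoc]; exact hP
    have hP₂ : (P ≫ pullback.snd π.left π.left) ≫ A.hom = 𝟙 _ := by
      rw [Category.assoc, ← Over.w π, ← pullback.condition_assoc, Over.w π]
      exact hP
    let y : 𝟙_ (Over (Spec (CommRingCat.of k))) ⟶ A := Over.homMk (P ≫ pullback.fst π.left π.left) hP₁
    let x : 𝟙_ (Over (Spec (CommRingCat.of k))) ⟶ A := Over.homMk (P ≫ pullback.snd π.left π.left) hP₂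
    have hxy : y ≫ π = x ≫ π := Over.OverMorphism.ext (by
      show (P ≫ pullback.fst π.left π.left) ≫ π.left = (P ≫ pullback.snd π.left π.left) ≫ π.left
      rw [Category.assoc, Category.assoc, pullback.condition])
    let a : Ker π := ⟨x⁻¹ * y, by rw [MonObj.mul_comp, GrpObj.inv_comp, hxy, inv_mul_cancel]⟩
    have h1 : x.left ≫ sec π a = P := by
      refine pullback.hom_ext ?_ ?_
      · rw [Category.assoc, sec_fst, ← Over.comp_left, AVAmpleLib.point_tR, mul_inv_cancel_left]
        rfl
      · rw [Category.assoc, sec_snd]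
        exact Category.comp_id _
    refine Set.mem_iUnion.2 ⟨a, x.left (IsLocalRing.closedPoint k), ?_⟩
    rw [← Scheme.Hom.comp_apply, h1]
    exact pointOfClosedPoint_apply p w hw _
  have := closure_minimal hall hcl
  rw [closure_closedPoints] at this
  exact Set.mem_iUnion.1 (this (Set.mem_univ z))

theorem sec_disjoint [LocallyOfFiniteType A.hom] [IsFinite π.left] [Etale π.left] (a b : Ker π) (hab : a ≠ b) :
    Disjoint (Set.range (sec π a)) (Set.range (sec π b)) := by
  rw [Set.disjoint_iff_inter_eq_empty, Set.eq_empty_iff_forall_notMem]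
  rintro z ⟨⟨u, rfl⟩, ⟨v, hv⟩⟩
  haveI ha := (SplitCover.section_props _ (sec π a) (sec_snd π a)).1
  haveI hb := (SplitCover.section_props _ (sec π b) (sec_snd π b)).1
  haveI := LocallyOfFiniteType.jacobsonSpace A.hom
  obtain ⟨w, hwU, hw⟩ := nonempty_inter_closedPoints (X := A.left)
    (Z := (sec π a ⁻¹ᵁ (sec π b).opensRange : A.left.Opens))
    ⟨u, show sec π a u ∈ Set.range (sec π b) from ⟨v, hv⟩⟩ (TopologicalSpace.Opens.isOpen _).isLocallyClosed
  obtain ⟨x, hx⟩ := AVAmpleLib.exists_pt_eq (A := A) w hw
  obtain ⟨w', hw'⟩ := hwU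
  have hww : w' = w := by
    have := congrArg (pullback.snd π.left π.left) hw'
    simpa [← Scheme.Hom.comp_apply, sec_snd] using this
  subst hww
  have hpt : AVAmpleLib.pt (x ≫ AVAmpleLib.tR a.1) = AVAmpleLib.pt (x ≫ AVAmpleLib.tR b.1) := by
    rw [AVAmpleLib.pt_comp, AVAmpleLib.pt_comp, hx, ← sec_fst π a, ← sec_fst π b, Scheme.Hom.comp_apply,
      Scheme.Hom.comp_apply, hw']
  have h := pt_injective hpt
  rw [AVAmpleLib.point_tR, AVAmpleLib.point_tR] at h
  exact hab (Subtype.ext (mul_left_cancel h))

theorem nonempty_iso [CharZero k] [IsProper A.hom] [Smooth A.hom] [GeometricallyConnected A.hom]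
    [IsProper B.hom] [Smooth B.hom] [GeometricallyConnected B.hom] [IsFinite π.left] [Surjective π.left]
    (E : A.left.Modules) [Coh.IsQCoh E] :
    Nonempty ((Scheme.Modules.pullback π.left).obj ((Scheme.Modules.pushforward π.left).obj E) ≅
      ∐ fun a : Ker π => (Scheme.Modules.pullback (AVAmpleLib.tR a.1).left).obj E) := by
  classical
  haveI := etale_of_isogeny A B π
  haveI := finite_ker π
  obtain ⟨n, ⟨e⟩⟩ := Finite.exists_equiv_fin (Ker π)
  let σ : Fin n → (A.left ⟶ pullback π.left π.left) := fun j => sec π (e.symm j)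
  haveI : ∀ j, IsOpenImmersion (σ j) := fun j => (SplitCover.section_props _ _ (sec_snd π (e.symm j))).1
  have hu := Groth.Agent.S12131.result π.left π.left (pullback.fst π.left π.left) (pullback.snd π.left π.left)
    (IsPullback.of_hasPullback π.left π.left) E
  obtain ⟨u⟩ := nonempty_push_iso σ (pullback.snd π.left π.left) (𝟙 _) (fun j => sec_snd π _)
    (fun i j hij => sec_disjoint π _ _ fun h => hij (e.symm.injective h))
    (fun z => let ⟨a, ha⟩ := sec_cover π z
      ⟨e a, by simpa [σ] using ha⟩)
    ((Scheme.Modules.pullback (pullback.fst π.left π.left)).obj E)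
  let F : Fin n → A.left.Modules := fun j => (Scheme.Modules.pullback (AVAmpleLib.tR (e.symm j).1).left).obj E
  let w : ∀ j : Fin n, (Scheme.Modules.pushforward (𝟙 A.left)).obj ((Scheme.Modules.pullback (σ j)).obj
      ((Scheme.Modules.pullback (pullback.fst π.left π.left)).obj E)) ≅ F j := fun j =>
    (Scheme.Modules.pushforwardId _).app _ ≪≫ (Scheme.Modules.pullbackComp (σ j) _).app E ≪≫
      (Scheme.Modules.pullbackCongr (sec_fst π (e.symm j))).app E
  refine ⟨@asIso _ _ _ _ _ hu ≪≫ u ≪≫ biproduct.mapIso w ≪≫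
    biproduct.isoCoproduct F ≪≫ (Sigma.whiskerEquiv (f := F) (g := fun a : Ker π => (Scheme.Modules.pullback (AVAmpleLib.tR a.1).left).obj E) e.symm (fun _ => Iso.refl _))⟩

end AVIsogPullLib

end
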